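import Mathlib

/-! A counting identity for fixed points of products of two classes in a doubly transitive action. -/

set_option autoImplicit false

namespace CfsgLib.ClassProduct

open Finset MulAction

variable {G : Type*} [Group G] [Fintype G] {X : Type*} [Fintype X] [DecidableEq X] [MulAction G X]

/-- For a transitive action, `#{g | g • x ∈ S} * |X| = |G| * |S|`. -/
theorem card_smul_mem_mul_card [IsPretransitive G X] (x : X) (S : Finset X) :
    #{g : G | g • x ∈ S} * Fintype.card X = Fintype.card G * #S := by
  classical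
  have hfib : ∀ z : X, #{g : G | g • x = z} = #{g : G | g • x = x} := by
    intro z
    obtain ⟨k, hk⟩ := exists_smul_eq G x z
    refine card_bij' (fun g _ => k⁻¹ * g) (fun g _ => k * g) ?_ ?_ ?_ ?_
    · intro g hg
      simp only [mem_filter, mem_univ, true_and] at hg ⊢
      rw [mul_smul, hg, ← hk, inv_smul_smul]
    · intro g hg
      simp only [mem_filter, mem_univ, true_and] at hg ⊢
      rw [mul_smul, hg, hk]
    · intro g _; simp
    · intro g _; simp
  have hG : Fintype.card G = Fintype.card X * #{g : G | g • x = x} := by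
    rw [← card_univ (α := G), card_eq_sum_card_fiberwise (f := fun g : G => g • x) (t := univ) (by simp)]
    rw [sum_congr rfl (fun z _ => hfib z), sum_const, smul_eq_mul, card_univ]
  have hS : #{g : G | g • x ∈ S} = #S * #{g : G | g • x = x} := by
    rw [card_eq_sum_card_fiberwise (f := fun g : G => g • x) (t := S) (fun g hg => by simpa using hg)]
    have : ∀ z ∈ S, #(({g : G | g • x ∈ S} : Finset G).filter fun g => g • x = z) = #{g : G | g • x = z} := by
      intro z hz
      congr 1
      ext g
      simp only [mem_filter, mem_univ, true_and, and_iff_right_iff_imp]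
      rintro rfl; exact hz
    rw [sum_congr rfl this, sum_congr rfl (fun z _ => hfib z), sum_const, smul_eq_mul]
  rw [hS, hG]; ring

/-- If a doubly transitive action has constantly `c` fixed points on the products `g a g⁻¹ b`, then
`(c - 1)(n - 1) = (f(a) - 1)(f(b) - 1)`. -/
theorem fix_product_identity [IsPretransitive G X] (h2 : ∀ x y x' y' : X, x ≠ y → x' ≠ y' → ∃ g : G, g • x = x' ∧ g • y = y')
    (hX : 2 ≤ Fintype.card X) (a b : Equiv.Perm X) (c : ℕ)
    (hc : ∀ g : G, #{x : X | g • a (g⁻¹ • b x) = x} = c) :
    ((c : ℤ) - 1) * ((Fintype.card X : ℤ) - 1) =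
      ((#{x : X | a x = x} : ℤ) - 1) * ((#{x : X | b x = x} : ℤ) - 1) := by
  classical
  set n := Fintype.card X with hn
  set fa := #{x : X | a x = x} with hfa
  set fb := #{x : X | b x = x} with hfb
  set N := Fintype.card G with hN
  have hfix : ∀ x : X, #{g : G | g • a (g⁻¹ • x) = x} * n = N * fa := by
    intro x
    rw [hfa, ← card_smul_mem_mul_card (G := G) x ({z : X | a z = z} : Finset X), hn]
    congr 1
    refine card_bij' (fun g _ => g⁻¹) (fun g _ => g⁻¹) ?_ ?_ ?_ ?_
    · intro g hg
      simp only [mem_filter, mem_univ, true_and] at hg ⊢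
      exact smul_left_cancel g (by rw [hg, smul_inv_smul])
    · intro g hg
      simp only [mem_filter, mem_univ, true_and] at hg ⊢
      simp only [inv_inv]
      rw [hg, inv_smul_smul]
    · intro g _; simp
    · intro g _; simp
  have hmove : ∀ x y : X, y ≠ x → #{g : G | g • a (g⁻¹ • y) = x} * (n * (n - 1)) = N * (n - fa) := by
    intro x y hxy
    let P := {q : X × X // q.1 ≠ q.2}
    letI actP : MulAction G P :=
      { smul := fun g q => ⟨(g • q.1.1, g • q.1.2), fun h => q.2 (smul_left_cancel g h)⟩
        one_smul := fun q => Subtype.ext (Prod.ext (one_smul G q.1.1) (one_smul G q.1.2))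
        mul_smul := fun g h q => Subtype.ext (Prod.ext (mul_smul g h q.1.1) (mul_smul g h q.1.2)) }
    have : IsPretransitive G P := by
      refine ⟨fun q r => ?_⟩
      obtain ⟨g, h1, h3⟩ := h2 q.1.1 q.1.2 r.1.1 r.1.2 q.2 r.2
      exact ⟨g, Subtype.ext (Prod.ext h1 h3)⟩
    have hP : Fintype.card P = n * (n - 1) := by
      rw [Fintype.card_subtype, show ({q : X × X | q.1 ≠ q.2} : Finset (X × X)) = (univ : Finset X).offDiag by
        ext q; simp, offDiag_card, card_univ, ← hn, Nat.mul_sub, mul_one]
    have hS : #({q : P | a q.1.1 = q.1.2} : Finset P) = n - fa := by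
      have h' : #({z : X | a z ≠ z} : Finset X) = n - fa := by
        rw [hfa, hn, ← card_compl]
        congr 1; ext z; simp
      rw [← h']
      refine card_bij (fun q _ => q.1.1) ?_ ?_ ?_
      · intro q hq
        simp only [mem_filter, mem_univ, true_and] at hq ⊢
        rw [hq]; exact q.2.symm
      · intro q hq r hr h
        simp only [mem_filter, mem_univ, true_and] at hq hr
        exact Subtype.ext (Prod.ext h (by rw [← hq, ← hr, h]))
      · intro z hz
        simp only [mem_filter, mem_univ, true_and] at hz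
        exact ⟨⟨(z, a z), fun h => hz h.symm⟩, by simp, rfl⟩
    rw [← hS, ← hP, ← card_smul_mem_mul_card (G := G) (⟨(y, x), hxy⟩ : P)]
    congr 1
    refine card_bij' (fun g _ => g⁻¹) (fun g _ => g⁻¹) ?_ ?_ ?_ ?_
    · intro g hg
      simp only [mem_filter, mem_univ, true_and] at hg ⊢
      change a (g⁻¹ • y) = g⁻¹ • x
      rw [← hg, inv_smul_smul]
    · intro g hg
      simp only [mem_filter, mem_univ, true_and] at hg ⊢
      change a (g • y) = g • x at hg
      simp only [inv_inv]
      rw [hg, inv_smul_smul]
    · intro g _; simp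
    · intro g _; simp
  have htot : c * N = ∑ x : X, #{g : G | g • a (g⁻¹ • b x) = x} := by
    calc c * N = ∑ g : G, #{x : X | g • a (g⁻¹ • b x) = x} := by
          rw [sum_congr rfl (fun g _ => hc g), sum_const, smul_eq_mul, card_univ, mul_comm]
      _ = _ := by
          simp only [card_filter]
          exact sum_comm
  have hterm : ∀ x : X, #{g : G | g • a (g⁻¹ • b x) = x} * (n * (n - 1)) =
      if b x = x then N * fa * (n - 1) else N * (n - fa) := by
    intro x
    split_ifs with h
    · rw [h, ← mul_assoc, hfix x]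
    · exact hmove x _ h
  have hmain : c * N * (n * (n - 1)) = fb * (N * fa * (n - 1)) + (n - fb) * (N * (n - fa)) := by
    rw [htot, sum_mul, sum_congr rfl (fun x _ => hterm x), sum_ite, sum_const, sum_const, smul_eq_mul,
      smul_eq_mul, filter_not, card_sdiff_of_subset (filter_subset _ _), card_univ, ← hn, ← hfb]
  have hNpos : 0 < N := Fintype.card_pos
  have ha : fa ≤ n := card_le_univ _
  have hb : fb ≤ n := card_le_univ _
  zify [ha, hb, show 1 ≤ n by omega] at hmain
  have h3 : (c : ℤ) * ((n : ℤ) * ((n : ℤ) - 1)) =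
      (fb : ℤ) * (fa * ((n : ℤ) - 1)) + ((n : ℤ) - fb) * ((n : ℤ) - fa) :=
    mul_left_cancel₀ (show (N : ℤ) ≠ 0 by exact_mod_cast hNpos.ne') (by linear_combination hmain)
  have h4 : ((n : ℤ)) * (((c : ℤ) - 1) * ((n : ℤ) - 1)) = (n : ℤ) * (((fa : ℤ) - 1) * ((fb : ℤ) - 1)) := by
    linear_combination h3
  exact mul_left_cancel₀ (show (n : ℤ) ≠ 0 by omega) h4

end CfsgLib.ClassProduct
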