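import Cfsg.Agent.ClassProduct.Counting
import Mathlib

/-!
Fixed points on the projective space of products of two conjugacy classes of `PSL_d`, `d ≥ 3`.
-/

set_option autoImplicit false
set_option linter.style.haveILetI false

namespace CfsgLib.ClassProduct.LinearFix

open Module Projectivization
open scoped MatrixGroups LinearAlgebra.Projectivization

variable {F : Type*} [Field F] {V : Type*} [AddCommGroup V] [Module F V]

/-- Eigenlines as points. -/
def Fixes (T : V →ₗ[F] V) (x : V) : Prop := ∃ μ : F, T x = μ • x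

/-- `T` has at most one eigenline. -/
def OneLine (T : V →ₗ[F] V) : Prop := ∀ x y : V, x ≠ 0 → Fixes T x → Fixes T y → y ∈ F ∙ x

theorem indep_two {x y : V} (hx : x ≠ 0) (hy : y ∉ F ∙ x) : LinearIndependent F ![x, y] := by
  rw [LinearIndependent.pair_iff' hx]
  exact fun c e => hy (Submodule.mem_span_singleton.2 ⟨c, e⟩)

omit [AddCommGroup V] in
theorem range_two (x y : V) : Set.range ![x, y] = {x, y} := by
  ext z; simp [eq_comm]; tauto

omit [AddCommGroup V] in
theorem range_three (x y z : V) : Set.range ![x, y, z] = {x, y, z} := by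
  ext w; simp [eq_comm]; tauto

theorem finrank_pair_le (x y : V) : finrank F (Submodule.span F ({x, y} : Set V)) ≤ 2 := by
  rw [← range_two]
  exact (finrank_range_le_card (R := F) _).trans (by simp)

theorem indep_three {x y z : V} (h : LinearIndependent F ![x, y]) (hz : z ∉ Submodule.span F {x, y}) :
    LinearIndependent F ![x, y, z] := by
  have := linearIndependent_finSnoc.2 ⟨h, by rwa [range_two]⟩
  convert this using 1
  ext i; fin_cases i <;> rfl

theorem indep_four {x y z w : V} (h : LinearIndependent F ![x, y, z])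
    (hw : w ∉ Submodule.span F {x, y, z}) : LinearIndependent F ![x, y, z, w] := by
  have := linearIndependent_finSnoc.2 ⟨h, by rwa [range_three]⟩
  convert this using 1
  ext i; fin_cases i <;> rfl

/-- If no `(x, y, T y)` with `x` a fixed eigenvector is independent, `T` is scalar modulo `x`. -/
theorem exists_range_le {T : V →ₗ[F] V} {x : V} (hx : x ≠ 0) (hfx : Fixes T x)
    (h : ∀ y, y ∉ F ∙ x → T y ∈ Submodule.span F {x, y}) :
    ∃ μ : F, LinearMap.range (T - μ • LinearMap.id) ≤ F ∙ x := by
  obtain ⟨l, hl⟩ := hfx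
  let T' : (V ⧸ (F ∙ x)) →ₗ[F] V ⧸ (F ∙ x) := Submodule.mapQ _ _ T (by
    rw [Submodule.span_singleton_le_iff_mem, Submodule.mem_comap, hl]
    exact Submodule.smul_mem _ _ (Submodule.mem_span_singleton_self x))
  obtain ⟨μ, hμ⟩ := T'.exists_eq_smul_id_of_forall_notLinearIndependent fun v => by
    obtain ⟨y, rfl⟩ := Submodule.mkQ_surjective _ v
    by_cases hy : y ∈ F ∙ x
    · intro hli
      exact hli.ne_zero 0 (by simpa using hy)
    · obtain ⟨s, t, hst⟩ := Submodule.mem_span_pair.1 (h y hy)
      intro hli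
      have hy' : (Submodule.mkQ (F ∙ x) y) ≠ 0 := by simpa using hy
      refine (LinearIndependent.pair_iff' hy').1 hli t ?_
      show t • Submodule.Quotient.mk y = Submodule.Quotient.mk (T y)
      rw [← hst, ← Submodule.Quotient.mk_smul, Submodule.Quotient.eq]
      rw [show t • y - (s • x + t • y) = -(s • x) by abel]
      exact neg_mem (Submodule.smul_mem _ _ (Submodule.mem_span_singleton_self x))
  refine ⟨μ, ?_⟩
  rintro _ ⟨y, rfl⟩
  have h1 : T' (Submodule.Quotient.mk y) = μ • (Submodule.Quotient.mk y : V ⧸ (F ∙ x)) := by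
    rw [hμ]; rfl
  rw [← Submodule.Quotient.mk_eq_zero]
  simp only [LinearMap.sub_apply, LinearMap.smul_apply, LinearMap.id_apply, Submodule.Quotient.mk_sub,
    Submodule.Quotient.mk_smul]
  exact sub_eq_zero.2 h1

variable [FiniteDimensional F V]

omit [FiniteDimensional F V] in
theorem exists_not_mem (S : Submodule F V) (h : finrank F S < finrank F V) : ∃ y, y ∉ S := by
  by_contra! hc
  rw [Submodule.eq_top_iff'.2 hc, finrank_top] at h
  omega

/-- A non-scalar map with an eigenvector has an independent triple `(x, y, T y)`. -/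
theorem exists_fix_triple (hd : 3 ≤ finrank F V) {T : V →ₗ[F] V}
    (hns : ∀ c : F, T ≠ c • LinearMap.id) (hex : ∃ x, x ≠ 0 ∧ Fixes T x) :
    ∃ x y, Fixes T x ∧ LinearIndependent F ![x, y, T y] := by
  by_contra! hc
  have key : ∀ x, x ≠ 0 → Fixes T x → ∃ μ : F, LinearMap.range (T - μ • LinearMap.id) ≤ F ∙ x :=
    fun x hx hfx => exists_range_le hx hfx fun y hy => by
      by_contra hT
      exact hc x y hfx (indep_three (indep_two hx hy) hT)
  obtain ⟨x, hx, hfx⟩ := hex
  obtain ⟨μ, hμ⟩ := key x hx hfx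
  have h1 : finrank F (LinearMap.range (T - μ • LinearMap.id)) ≤ 1 :=
    (Submodule.finrank_mono hμ).trans (finrank_span_singleton hx).le
  have h2 := LinearMap.finrank_range_add_finrank_ker (T - μ • LinearMap.id)
  obtain ⟨x', hx'k, hx'x⟩ : ∃ x' ∈ LinearMap.ker (T - μ • LinearMap.id), x' ∉ F ∙ x := by
    by_contra! hsub
    have := Submodule.finrank_mono (show LinearMap.ker (T - μ • LinearMap.id) ≤ F ∙ x from hsub)
    rw [finrank_span_singleton hx] at this
    omega
  have hx'0 : x' ≠ 0 := fun e => hx'x (e ▸ zero_mem _)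
  obtain ⟨ν, hν⟩ := key x' hx'0 ⟨μ, sub_eq_zero.1 (LinearMap.mem_ker.1 hx'k)⟩
  obtain ⟨z, hz⟩ := exists_not_mem (Submodule.span F {x, x'}) (by
    have h3 := finrank_pair_le (F := F) x x'
    omega)
  have hxm : F ∙ x ≤ Submodule.span F {x, x'} := Submodule.span_mono (by simp)
  have hxm' : F ∙ x' ≤ Submodule.span F {x, x'} := Submodule.span_mono (by simp)
  have hμν : μ = ν := by
    by_contra hne
    refine hz ?_
    have := sub_mem (hxm (hμ ⟨z, rfl⟩)) (hxm' (hν ⟨z, rfl⟩))
    simp only [LinearMap.sub_apply, LinearMap.smul_apply, LinearMap.id_apply, sub_sub_sub_cancel_left,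
      ← sub_smul] at this
    have h4 := Submodule.smul_mem _ (ν - μ)⁻¹ this
    rwa [smul_smul, inv_mul_cancel₀ (sub_ne_zero.2 (Ne.symm hne)), one_smul] at h4
  subst hμν
  refine hns μ (LinearMap.ext fun y => ?_)
  obtain ⟨s, hs⟩ := Submodule.mem_span_singleton.1 (hμ ⟨y, rfl⟩)
  obtain ⟨t, ht⟩ := Submodule.mem_span_singleton.1 (hν ⟨y, rfl⟩)
  simp only [LinearMap.sub_apply, LinearMap.smul_apply, LinearMap.id_apply] at hs ht ⊢
  by_cases ht0 : t = 0
  · rw [ht0, zero_smul] at ht
    exact sub_eq_zero.1 ht.symm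
  · refine absurd ?_ hx'x
    have h4 : x' = (t⁻¹ * s) • x := by rw [mul_smul, hs, ← ht, smul_smul, inv_mul_cancel₀ ht0, one_smul]
    rw [h4]
    exact Submodule.smul_mem _ _ (Submodule.mem_span_singleton_self x)

/-- A map with a single eigenline has an independent chain `(x, T x, T² x)`. -/
theorem exists_chain (hd : 3 ≤ finrank F V) {T : V →ₗ[F] V} (hns : ∀ c : F, T ≠ c • LinearMap.id)
    (hex : ∃ x, x ≠ 0 ∧ Fixes T x) (h1 : OneLine T) :
    ∃ x, LinearIndependent F ![x, T x, T (T x)] := by
  obtain ⟨x₀, y, ⟨l, hl⟩, hli⟩ := exists_fix_triple hd hns hex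
  have hx₀ : x₀ ≠ 0 := hli.ne_zero 0
  have hco : ∀ a b c : F, a • x₀ + b • y + c • T y = 0 → a = 0 ∧ b = 0 ∧ c = 0 := by
    intro a b c e
    have := Fintype.linearIndependent_iff.1 hli ![a, b, c] (by simpa [Fin.sum_univ_three] using e)
    exact ⟨this 0, this 1, this 2⟩
  by_contra! hc
  have hsq : ∀ u : V, LinearIndependent F ![u, T u] → ∃ s t : F, s • u + t • T u = T (T u) :=
    fun u hu => Submodule.mem_span_pair.1 (by
      by_contra hT
      exact hc u (indep_three hu hT))
  obtain ⟨α, β, hy⟩ := hsq y (LinearIndependent.pair_iff.2 fun s t e => by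
    obtain ⟨-, h2, h3⟩ := hco 0 s t (by rw [zero_smul, zero_add]; exact e)
    exact ⟨h2, h3⟩)
  obtain ⟨γ, δ, hu⟩ := hsq (x₀ + y) (LinearIndependent.pair_iff.2 fun s t e => by
    rw [map_add, hl] at e
    obtain ⟨-, h2, h3⟩ := hco (s + t * l) s t (by rw [← e]; module)
    exact ⟨h2, h3⟩)
  rw [map_add T x₀, map_add T, hl, map_smul, hl, ← hy] at hu
  obtain ⟨e1, e2, e3⟩ := hco (γ + δ * l - l * l) (γ - α) (δ - β) (by
    linear_combination (norm := module) hu)
  rw [sub_eq_zero] at e2 e3
  subst e2 e3
  have hzero : (γ + δ * l - l * l) • y = 0 := by rw [e1, zero_smul]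
  have hw : Fixes T (T y - (δ - l) • y) := ⟨l, by
    rw [map_sub, map_smul, ← hy]
    linear_combination (norm := module) hzero⟩
  obtain ⟨k, hk⟩ := Submodule.mem_span_singleton.1 (h1 x₀ _ hx₀ ⟨l, hl⟩ hw)
  have := (hco (-k) (-(δ - l)) 1 (by linear_combination (norm := module) -hk)).2.2
  exact one_ne_zero this

/-- With a chain, a fourth independent vector pair exists in dimension at least four. -/
theorem exists_quad (hd : 4 ≤ finrank F V) {T : V →ₗ[F] V} {x : V}
    (hx : LinearIndependent F ![x, T x, T (T x)]) :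
    ∃ y, LinearIndependent F ![x, T x, y, T y] := by
  obtain ⟨y, hy⟩ := exists_not_mem (Submodule.span F {x, T x, T (T x)}) (by
    have h3 := finrank_span_eq_card hx
    rw [range_three] at h3
    rw [h3, Fintype.card_fin]; omega)
  have h2 : LinearIndependent F ![x, T x] := by
    convert hx.comp ![0, 1] (by decide) using 1
    ext i; fin_cases i <;> rfl
  have hy2 : y ∉ Submodule.span F {x, T x} := fun h => hy (Submodule.span_mono
    (Set.insert_subset_insert (by simp)) h)
  have hy3 : y + T x ∉ Submodule.span F {x, T x} := fun h => hy2 (by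
    simpa using sub_mem h (Submodule.subset_span (by simp : T x ∈ ({x, T x} : Set V))))
  by_contra! hc
  have key : ∀ v, v ∉ Submodule.span F {x, T x} → T v ∈ Submodule.span F {x, T x, v} := fun v hv => by
    by_contra hT
    exact hc v (indep_four (indep_three h2 hv) hT)
  obtain ⟨a, b, c, hy'⟩ := Submodule.mem_span_triple.1 (key y hy2)
  obtain ⟨a', b', c', hyz⟩ := Submodule.mem_span_triple.1 (key _ hy3)
  rw [map_add, ← hy'] at hyz
  by_cases hcc : c' = c
  · subst hcc
    have h5 : T (T x) ∈ Submodule.span F {x, T x} := Submodule.mem_span_pair.2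
      ⟨a' - a, b' - b + c', by linear_combination (norm := module) hyz⟩
    exact (linearIndependent_finSnoc.1 (show LinearIndependent F (Fin.snoc ![x, T x] (T (T x))) by
      convert hx using 1
      ext i; fin_cases i <;> rfl)).2 (by rwa [range_two])
  · refine hy (Submodule.mem_span_triple.2 ⟨(a - a') * (c' - c)⁻¹, (b - b' - c') * (c' - c)⁻¹,
      (c' - c)⁻¹, ?_⟩)
    have hne : c' - c ≠ 0 := sub_ne_zero.2 hcc
    calc _ = (c' - c)⁻¹ • ((a - a') • x + (b - b' - c') • T x + T (T x)) := by module
      _ = (c' - c)⁻¹ • ((c' - c) • y) := by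
        congr 1
        linear_combination (norm := module) -hyz
      _ = y := by rw [smul_smul, inv_mul_cancel₀ hne, one_smul]

/-- A map without eigenvectors has a chain or an independent quadruple. -/
theorem exists_chain_or_quad (hd : 3 ≤ finrank F V) {T : V →ₗ[F] V}
    (hno : ∀ x, x ≠ 0 → ¬ Fixes T x) :
    (∃ x, LinearIndependent F ![x, T x, T (T x)]) ∨
      ∃ x y, LinearIndependent F ![x, T x, y, T y] := by
  haveI : Nontrivial V := finrank_pos_iff (R := F).1 (by omega)
  obtain ⟨x, hx⟩ := exists_ne (0 : V)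
  have h2 : LinearIndependent F ![x, T x] := indep_two hx fun h => by
    obtain ⟨c, hc⟩ := Submodule.mem_span_singleton.1 h
    exact hno x hx ⟨c, hc.symm⟩
  by_cases hW : T (T x) ∈ Submodule.span F {x, T x}
  swap
  · exact Or.inl ⟨x, indep_three h2 hW⟩
  right
  by_contra! hc
  set W := Submodule.span F ({x, T x} : Set V) with hWdef
  have hWT : W ≤ W.comap T := by
    rw [hWdef, Submodule.span_le]
    rintro v (rfl | rfl)
    · exact Submodule.subset_span (by simp)
    · exact hW
  let T' : (V ⧸ W) →ₗ[F] V ⧸ W := Submodule.mapQ W W T hWT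
  obtain ⟨μ, hμ⟩ := T'.exists_eq_smul_id_of_forall_notLinearIndependent fun v => by
    obtain ⟨y, rfl⟩ := Submodule.mkQ_surjective W v
    by_cases hy : y ∈ W
    · intro hli
      exact hli.ne_zero 0 (by simpa using hy)
    · intro hli
      refine hc x y (indep_four (indep_three h2 hy) fun hT => ?_)
      obtain ⟨a, b, c, e⟩ := Submodule.mem_span_triple.1 hT
      have hy' : (Submodule.mkQ W y) ≠ 0 := by simpa using hy
      refine (LinearIndependent.pair_iff' hy').1 hli c ?_
      show c • Submodule.Quotient.mk y = Submodule.Quotient.mk (T y)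
      rw [← e, ← Submodule.Quotient.mk_smul, Submodule.Quotient.eq,
        show c • y - (a • x + b • T x + c • y) = -(a • x + b • T x) by abel]
      exact neg_mem (Submodule.mem_span_pair.2 ⟨a, b, rfl⟩)
  have hr : LinearMap.range (T - μ • LinearMap.id) ≤ W := by
    rintro _ ⟨y, rfl⟩
    rw [← Submodule.Quotient.mk_eq_zero]
    simp only [LinearMap.sub_apply, LinearMap.smul_apply, LinearMap.id_apply, Submodule.Quotient.mk_sub,
      Submodule.Quotient.mk_smul]
    exact sub_eq_zero.2 (show T' (Submodule.Quotient.mk y) = _ by rw [hμ]; rfl)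
  have h3 : finrank F W ≤ 2 := finrank_pair_le (F := F) x (T x)
  have h4 := LinearMap.finrank_range_add_finrank_ker (T - μ • LinearMap.id)
  have h5 := Submodule.finrank_mono hr
  obtain ⟨z, hz, hz0⟩ := Submodule.exists_mem_ne_zero_of_ne_bot
    (p := LinearMap.ker (T - μ • LinearMap.id)) (fun e => by rw [e, finrank_bot] at h4; omega)
  exact hno z hz0 ⟨μ, sub_eq_zero.1 (LinearMap.mem_ker.1 hz)⟩

/-- A linear equivalence of determinant one carrying one independent family to another up to
scalars. -/
theorem exists_det_one {k : ℕ} {v w : Fin (k + 1) → V} (hv : LinearIndependent F v)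
    (hw : LinearIndependent F w) :
    ∃ g : SpecialLinearGroup F V, ∀ i, ∃ c : F, c ≠ 0 ∧ g.toLinearEquiv (v i) = c • w i := by
  let f := hv.linearCombinationEquiv.symm ≪≫ₗ hw.linearCombinationEquiv
  obtain ⟨g, hg⟩ := Submodule.exists_linearEquiv_restrict_eq f
  have hgv : ∀ i, g (v i) = w i := fun i => by
    have h1 : (hv.linearCombinationEquiv (Finsupp.single i 1) : V) = v i := by simp
    rw [← h1, ← hg]
    simp [f]
  have hs := hw.linearIndepOn_id
  let s := hs.extend (Set.subset_univ _)
  let b : Module.Basis s F V := Module.Basis.extend hs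
  have hmem : ∀ i, w i ∈ s := fun i => hs.subset_extend _ ⟨i, rfl⟩
  set a := (LinearEquiv.det g)⁻¹ with ha
  let D := LinearEquiv.dilatransvection (f := b.coord ⟨w 0, hmem 0⟩)
    (v := ((a : F) - 1) • b ⟨w 0, hmem 0⟩) (by simp)
  have hD : LinearEquiv.det D = a := by
    simp [D, ← Units.val_inj, LinearEquiv.coe_det, LinearMap.transvection.det]
  have hDw : ∀ i, D (w i) = w i + ((if i = 0 then (1 : F) else 0) * ((a : F) - 1)) • w 0 := by
    intro i
    rw [← LinearEquiv.coe_coe, LinearEquiv.dilatransvection.coe_toLinearMap,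
      LinearMap.transvection.apply, Module.Basis.coord_apply]
    have h1 : b.repr (w i) ⟨w 0, hmem 0⟩ = if i = 0 then (1 : F) else 0 := by
      rw [show w i = b ⟨w i, hmem i⟩ from (Module.Basis.extend_apply_self hs ⟨w i, hmem i⟩).symm,
        Module.Basis.repr_self]
      by_cases hi : i = 0
      · subst hi; simp
      · rw [if_neg hi, Finsupp.single_eq_of_ne]
        exact fun e => hi (hw.injective (congrArg Subtype.val e).symm)
    rw [h1, Module.Basis.extend_apply_self, smul_smul]
  refine ⟨⟨g.trans D, ?_⟩, fun i => ?_⟩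
  · rw [LinearEquiv.det_trans, hD, ha, inv_mul_cancel]
  · refine ⟨if i = 0 then (a : F) else 1, ?_, ?_⟩
    · split_ifs
      · exact a.ne_zero
      · exact one_ne_zero
    · show D (g (v i)) = _
      rw [hgv, hDw]
      by_cases hi : i = 0
      · subst hi; simp only [if_true]; module
      · simp only [if_neg hi]; module

end CfsgLib.ClassProduct.LinearFix
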