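import Cfsg.Agent.ClassProduct.LinearFix

/-!
The product of two conjugacy classes of `PSL_d`, `d ≥ 3`, is not a single class.
-/

set_option autoImplicit false
set_option linter.style.haveILetI false

namespace CfsgLib.ClassProduct.LinearFix

open Module Projectivization MulAction
open scoped MatrixGroups LinearAlgebra.Projectivization

variable {F : Type*} [Field F] [Fintype F] {d : ℕ}

local notation "𝕍" => Fin d → F
local notation "𝔾" => Matrix.SpecialLinearGroup (Fin d) F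

/-- The linear map. -/
abbrev tl (A : Matrix.SpecialLinearGroup (Fin d) F) : (Fin d → F) →ₗ[F] (Fin d → F) :=
  Matrix.toLin' (A : Matrix (Fin d) (Fin d) F)

/-- Number of fixed points. -/
noncomputable def fx (A : Matrix.SpecialLinearGroup (Fin d) F) : ℕ :=
  Nat.card {x : ℙ F (Fin d → F) // A • x = x}

omit [Fintype F] in
theorem tl_mul (A B : 𝔾) (v : 𝕍) : tl (A * B) v = tl A (tl B v) := by
  simp [tl, Matrix.toLin'_mul]

omit [Fintype F] in
theorem smul_mk_eq (A : 𝔾) {v : 𝕍} (hv : v ≠ 0) :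
    ∃ h, A • mk F v hv = mk F (tl A v) h :=
  ⟨_, rfl⟩

omit [Fintype F] in
theorem fixes_iff (A : 𝔾) {v : 𝕍} (hv : v ≠ 0) : A • mk F v hv = mk F v hv ↔ Fixes (tl A) v := by
  obtain ⟨h, e⟩ := smul_mk_eq A hv
  rw [e, mk_eq_mk_iff']
  exact ⟨fun ⟨a, ha⟩ => ⟨a, ha.symm⟩, fun ⟨a, ha⟩ => ⟨a, ha.symm⟩⟩

theorem fx_mul_card_units (A : 𝔾) :
    fx A * (Fintype.card F - 1) = Nat.card {v : 𝕍 // v ≠ 0 ∧ Fixes (tl A) v} := by
  have hφ : ∀ (x : {x : ℙ F 𝕍 // A • x = x}) (u : Fˣ),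
      (u : F) • x.1.rep ≠ 0 ∧ Fixes (tl A) ((u : F) • x.1.rep) := by
    intro x u
    obtain ⟨μ, hμ⟩ := (fixes_iff A x.1.rep_nonzero).1 (by rw [mk_rep]; exact x.2)
    exact ⟨smul_ne_zero u.ne_zero x.1.rep_nonzero, μ, by rw [map_smul, hμ, smul_comm]⟩
  classical
  rw [fx, ← Fintype.card_units, ← Nat.card_eq_fintype_card, ← Nat.card_prod]
  refine Nat.card_congr (Equiv.ofBijective (fun xu => ⟨(xu.2 : F) • xu.1.1.rep, hφ xu.1 xu.2⟩) ⟨?_, ?_⟩)
  · rintro ⟨x, u⟩ ⟨y, v⟩ e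
    have e' : (u : F) • x.1.rep = (v : F) • y.1.rep := congrArg Subtype.val e
    have hxy : x.1 = y.1 := by
      rw [← mk_rep x.1, ← mk_rep y.1, mk_eq_mk_iff']
      refine ⟨(u : F)⁻¹ * v, ?_⟩
      rw [mul_smul, ← e', smul_smul, inv_mul_cancel₀ u.ne_zero, one_smul]
    obtain rfl := Subtype.ext hxy
    exact Prod.ext rfl (Units.ext (smul_left_injective F x.1.rep_nonzero e'))
  · rintro ⟨v, hv, hfv⟩
    obtain ⟨a, ha⟩ := (mk_eq_mk_iff' F v _ hv (mk F v hv).rep_nonzero).1 (mk_rep (mk F v hv)).symm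
    have ha0 : a ≠ 0 := fun e => hv (by rw [← ha, e, zero_smul])
    exact ⟨(⟨mk F v hv, (fixes_iff A hv).2 hfv⟩, Units.mk0 a ha0), Subtype.ext ha⟩

omit [Fintype F] in
theorem fx_conj (k A : 𝔾) : fx (k * A * k⁻¹) = fx A := by
  refine Nat.card_congr
    { toFun := fun x => ⟨k⁻¹ • x.1, by
        have h := congrArg (k⁻¹ • ·) x.2
        simp only [mul_smul, inv_smul_smul] at h
        exact h⟩
      invFun := fun x => ⟨k • x.1, by rw [mul_smul, mul_smul, inv_smul_smul, x.2]⟩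
      left_inv := fun x => Subtype.ext (smul_inv_smul k x.1)
      right_inv := fun x => Subtype.ext (inv_smul_smul k x.1) }

omit [Fintype F] in
theorem fx_inv (A : 𝔾) : fx A⁻¹ = fx A := by
  refine Nat.card_congr (Equiv.subtypeEquivRight fun x => ?_)
  rw [inv_smul_eq_iff]
  exact eq_comm

omit [Fintype F] in
theorem tl_injective (A : 𝔾) : Function.Injective (tl A) :=
  (Matrix.SpecialLinearGroup.toLin' A).injective

/-- The fixed vectors of a non-scalar map. -/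
theorem card_fixed_le (hd : 3 ≤ d) (A : 𝔾) (hns : ∀ c : F, tl A ≠ c • LinearMap.id) :
    Nat.card {v : 𝕍 // v ≠ 0 ∧ Fixes (tl A) v} + 2 ≤ Fintype.card F ^ (d - 1) + Fintype.card F := by
  classical
  set q := Fintype.card F with hq
  have hq2 : 2 ≤ q := Fintype.one_lt_card
  by_cases h0 : ∃ v : 𝕍, v ≠ 0 ∧ Fixes (tl A) v
  swap
  · haveI : IsEmpty {v : 𝕍 // v ≠ 0 ∧ Fixes (tl A) v} := ⟨fun v => h0 ⟨v, v.2⟩⟩
    rw [Nat.card_eq_zero.2 (Or.inl inferInstance)]
    omega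
  obtain ⟨v₀, hv₀, μ, hμ⟩ := h0
  set E := Module.End.eigenspace (tl A) μ
  set W := ⨆ (ν : F) (_ : ν ≠ μ), Module.End.eigenspace (tl A) ν
  have hdisj : Disjoint E W := Module.End.eigenspaces_iSupIndep (tl A) μ
  have hdim : finrank F E + finrank F W ≤ d := by
    have h1 := Submodule.finrank_sup_add_finrank_inf_eq E W
    rw [hdisj.eq_bot, finrank_bot, add_zero] at h1
    rw [← h1]
    exact (Submodule.finrank_le _).trans (by simp)
  have hE1 : 1 ≤ finrank F E := Submodule.one_le_finrank_iff.2 (fun e =>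
    hv₀ ((Submodule.eq_bot_iff _).1 e v₀ (Module.End.mem_eigenspace_iff.2 hμ)))
  have hEd : finrank F E ≤ d - 1 := by
    by_contra hlt
    have htop : E = ⊤ := Submodule.eq_top_of_finrank_eq (by
      simp only [finrank_fintype_fun_eq_card, Fintype.card_fin]; omega)
    exact hns μ (LinearMap.ext fun v => Module.End.mem_eigenspace_iff.1
      (show v ∈ E by rw [htop]; trivial))
  have hsub : ({v : 𝕍 | v ≠ 0 ∧ Fixes (tl A) v} : Set 𝕍) ⊆
      ((E : Set 𝕍) \ {0}) ∪ ((W : Set 𝕍) \ {0}) := by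
    rintro v ⟨hv, ν, hν⟩
    by_cases e : ν = μ
    · exact Or.inl ⟨Module.End.mem_eigenspace_iff.2 (e ▸ hν), hv⟩
    · exact Or.inr ⟨Submodule.mem_iSup_of_mem ν (Submodule.mem_iSup_of_mem e
        (Module.End.mem_eigenspace_iff.2 hν)), hv⟩
  have h1 := (Set.ncard_le_ncard hsub (Set.toFinite _)).trans (Set.ncard_union_le _ _)
  rw [Set.ncard_sdiff_singleton_of_mem (zero_mem E), Set.ncard_sdiff_singleton_of_mem (zero_mem W),
    ← Nat.card_coe_set_eq, ← Nat.card_coe_set_eq, ← Nat.card_coe_set_eq] at h1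
  have hcE : Nat.card E = q ^ finrank F E := by
    rw [hq, ← Nat.card_eq_fintype_card]; exact Module.natCard_eq_pow_finrank
  have hcW : Nat.card W = q ^ finrank F W := by
    rw [hq, ← Nat.card_eq_fintype_card]; exact Module.natCard_eq_pow_finrank
  change Nat.card {v : 𝕍 // v ≠ 0 ∧ Fixes (tl A) v} ≤ (Nat.card E - 1) + (Nat.card W - 1) at h1
  rw [hcE, hcW] at h1
  have key : q ^ finrank F E + q ^ finrank F W ≤ q ^ (d - 1) + q := by
    rcases Nat.eq_zero_or_pos (finrank F W) with hw | hw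
    · rw [hw, pow_zero]
      have := Nat.pow_le_pow_right (show 0 < q by omega) hEd
      omega
    · have hwle : finrank F W ≤ d - finrank F E := by omega
      obtain ⟨a, ha⟩ : ∃ a, finrank F E = a + 1 := ⟨finrank F E - 1, by omega⟩
      obtain ⟨b, hb⟩ : ∃ b, d - finrank F E = b + 1 := ⟨d - finrank F E - 1, by omega⟩
      have h2 := Nat.pow_le_pow_right (show 0 < q by omega) hwle
      rw [ha] at h2 ⊢
      rw [show d - (a + 1) = b + 1 by omega] at h2
      rw [show d - 1 = a + b + 1 by omega]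
      have ha1 : 1 ≤ q ^ a := Nat.one_le_pow _ _ (by omega)
      have hb1 : 1 ≤ q ^ b := Nat.one_le_pow _ _ (by omega)
      simp only [pow_succ, pow_add] at h2 ⊢
      obtain ⟨Q, hQ⟩ : ∃ Q, q ^ a = Q + 1 := ⟨q ^ a - 1, by omega⟩
      obtain ⟨R, hR⟩ : ∃ R, q ^ b = R + 1 := ⟨q ^ b - 1, by omega⟩
      rw [hR] at h2
      rw [hQ, hR]
      nlinarith [Nat.zero_le (q * (Q * R))]
  have hp1 : 1 ≤ q ^ finrank F E := Nat.one_le_pow _ _ (by omega)
  have hp2 : 1 ≤ q ^ finrank F W := Nat.one_le_pow _ _ (by omega)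
  omega

/-- With all eigenspaces of dimension at most `u`, few fixed points. -/
theorem fx_le_of_finrank_le (A : 𝔾) (u : ℕ)
    (hu : ∀ μ : F, finrank F (Module.End.eigenspace (tl A) μ) ≤ u) :
    fx A ≤ Fintype.card F ^ u - 1 := by
  classical
  set q := Fintype.card F with hq
  have hq2 : 2 ≤ q := Fintype.one_lt_card
  have hsub : ({v : 𝕍 | v ≠ 0 ∧ Fixes (tl A) v} : Set 𝕍) ⊆
      ⋃ ν : Fˣ, (Module.End.eigenspace (tl A) (ν : F) : Set 𝕍) \ {0} := by
    rintro v ⟨hv, ν, hν⟩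
    have hν0 : ν ≠ 0 := fun e => hv (tl_injective A (by rw [hν, e, zero_smul, map_zero]))
    exact Set.mem_iUnion.2 ⟨Units.mk0 ν hν0, Module.End.mem_eigenspace_iff.2 hν, hv⟩
  have h1 := (Set.ncard_le_ncard hsub (Set.toFinite _)).trans (Set.ncard_iUnion_le_of_fintype _)
  have h2 : ∀ ν : Fˣ, ((Module.End.eigenspace (tl A) (ν : F) : Set 𝕍) \ {0}).ncard ≤ q ^ u - 1 := by
    intro ν
    rw [Set.ncard_sdiff_singleton_of_mem (zero_mem (Module.End.eigenspace (tl A) (ν : F))),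
      ← Nat.card_coe_set_eq]
    refine Nat.sub_le_sub_right ?_ 1
    change Nat.card (Module.End.eigenspace (tl A) (ν : F)) ≤ q ^ u
    rw [Module.natCard_eq_pow_finrank (K := F), Nat.card_eq_fintype_card]
    exact Nat.pow_le_pow_right (by omega) (hu _)
  have h3 := h1.trans (Finset.sum_le_sum fun ν _ => h2 ν)
  rw [Finset.sum_const, Finset.card_univ, Fintype.card_units, smul_eq_mul, ← Nat.card_coe_set_eq] at h3
  change Nat.card {v : 𝕍 // v ≠ 0 ∧ Fixes (tl A) v} ≤ _ at h3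
  rw [← fx_mul_card_units, mul_comm, ← hq] at h3
  exact Nat.le_of_mul_le_mul_left h3 (by omega)

omit [Fintype F] in
/-- Transitivity on independent families of points. -/
theorem exists_smul_family {k : ℕ} {v w : Fin (k + 1) → 𝕍} (hv : LinearIndependent F v)
    (hw : LinearIndependent F w) :
    ∃ g : 𝔾, ∀ i, g • mk F (v i) (hv.ne_zero i) = mk F (w i) (hw.ne_zero i) := by
  obtain ⟨g, hg⟩ := exists_det_one hv hw
  refine ⟨Matrix.SpecialLinearGroup.toLin'_equiv.symm g, fun i => ?_⟩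
  obtain ⟨h, e⟩ := smul_mk_eq (Matrix.SpecialLinearGroup.toLin'_equiv.symm g) (hv.ne_zero i)
  obtain ⟨c, -, hc⟩ := hg i
  rw [e, mk_eq_mk_iff']
  refine ⟨c, ?_⟩
  rw [← hc, ← congrArg (fun s : SpecialLinearGroup F 𝕍 => s.toLinearEquiv (v i))
    (Matrix.SpecialLinearGroup.toLin'_equiv.apply_symm_apply g)]
  rfl

/-- A prescribed pair of fixed points of a product of conjugates. -/
theorem two_le_fx (A B g : 𝔾) {p p' q q' r r' s s' : ℙ F 𝕍} (hpr : p ≠ r)
    (hA : A⁻¹ • p = q) (hA' : A⁻¹ • r = s) (hB : B • p' = q') (hB' : B • r' = s')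
    (h1 : g • p' = p) (h2 : g • q' = q) (h3 : g • r' = r) (h4 : g • s' = s) :
    2 ≤ fx (A * (g * B * g⁻¹)) := by
  have h : ∀ (x x' y y' : ℙ F 𝕍), A⁻¹ • x = y → B • x' = y' → g • x' = x → g • y' = y →
      (A * (g * B * g⁻¹)) • x = x := by
    intro x x' y y' e1 e2 e3 e4
    rw [mul_smul, mul_smul, mul_smul, ← e3, inv_smul_smul, e2, e4, ← e1, smul_inv_smul, e3]
  haveI : Nontrivial {x : ℙ F 𝕍 // (A * (g * B * g⁻¹)) • x = x} :=
    ⟨⟨⟨p, h p p' q q' hA hB h1 h2⟩, ⟨r, h r r' s s' hA' hB' h3 h4⟩,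
      fun e => hpr (congrArg Subtype.val e)⟩⟩
  exact Finite.one_lt_card

theorem exists_two_le_fx (hd : 3 ≤ d) (A B : 𝔾) (hA : ∀ c : F, tl A⁻¹ ≠ c • LinearMap.id)
    (hB : ∀ c : F, tl B ≠ c • LinearMap.id) (h1 : fx A = 1) :
    ∃ g : 𝔾, 2 ≤ fx (A * (g * B * g⁻¹)) := by
  have hfin : finrank F 𝕍 = d := by simp
  have hinv : fx A⁻¹ = 1 := by rw [fx_inv, h1]
  obtain ⟨hs, ⟨⟨p₀, hp₀⟩⟩⟩ := Nat.card_eq_one_iff_unique.1 hinv
  have hex : ∃ x, x ≠ 0 ∧ Fixes (tl A⁻¹) x :=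
    ⟨p₀.rep, p₀.rep_nonzero, (fixes_iff A⁻¹ p₀.rep_nonzero).1 (by rw [mk_rep]; exact hp₀)⟩
  have hone : OneLine (tl A⁻¹) := by
    intro x y hx hfx hfy
    by_cases hy : y = 0
    · rw [hy]; exact zero_mem _
    have := congrArg Subtype.val (hs.elim ⟨mk F y hy, (fixes_iff _ hy).2 hfy⟩
      ⟨mk F x hx, (fixes_iff _ hx).2 hfx⟩)
    obtain ⟨a, ha⟩ := (mk_eq_mk_iff' F y x hy hx).1 this
    exact Submodule.mem_span_singleton.2 ⟨a, ha⟩
  have hne : ∀ {k : ℕ} {v : Fin (k + 1) → 𝕍} (hv : LinearIndependent F v) (i j : Fin (k + 1)),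
      i ≠ j → mk F (v i) (hv.ne_zero i) ≠ mk F (v j) (hv.ne_zero j) := by
    intro k v hv i j hij e
    obtain ⟨a, ha⟩ := (mk_eq_mk_iff' F _ _ (hv.ne_zero i) (hv.ne_zero j)).1 e
    exact hv.notMem_span_image (s := {j}) (x := i) (by simpa using hij)
      (by rw [Set.image_singleton]; exact Submodule.mem_span_singleton.2 ⟨a, ha⟩)
  by_cases hBf : ∃ x, x ≠ 0 ∧ Fixes (tl B) x
  · -- a fixed and a moved point
    obtain ⟨x, y, hfx, hv⟩ := exists_fix_triple (by omega) hA hex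
    obtain ⟨x', y', hfx', hv'⟩ := exists_fix_triple (by omega) hB hBf
    obtain ⟨g, hg⟩ := exists_smul_family hv' hv
    exact ⟨g, two_le_fx A B g (hne hv 0 1 (by decide))
      ((fixes_iff A⁻¹ (hv.ne_zero 0)).2 hfx) (q := mk F x (hv.ne_zero 0))
      (s := mk F (tl A⁻¹ y) (hv.ne_zero 2)) rfl
      ((fixes_iff B (hv'.ne_zero 0)).2 hfx') (s' := mk F (tl B y') (hv'.ne_zero 2)) rfl
      (hg 0) (hg 0) (hg 1) (hg 2)⟩
  push Not at hBf
  obtain ⟨x, hv⟩ := exists_chain (by omega) hA hex hone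
  rcases exists_chain_or_quad (by omega) hBf with ⟨x', hv'⟩ | ⟨x', y', hv'⟩
  · obtain ⟨g, hg⟩ := exists_smul_family hv' hv
    exact ⟨g, two_le_fx A B g (hne hv 0 1 (by decide))
      (q := mk F (tl A⁻¹ x) (hv.ne_zero 1)) rfl
      (s := mk F (tl A⁻¹ (tl A⁻¹ x)) (hv.ne_zero 2)) rfl
      (q' := mk F (tl B x') (hv'.ne_zero 1)) rfl
      (s' := mk F (tl B (tl B x')) (hv'.ne_zero 2)) rfl (hg 0) (hg 1) (hg 1) (hg 2)⟩
  · have h4 : 4 ≤ finrank F 𝕍 := by
      have := hv'.fintype_card_le_finrank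
      simpa using this
    obtain ⟨y, hv4⟩ := exists_quad h4 hv
    obtain ⟨g, hg⟩ := exists_smul_family hv' hv4
    exact ⟨g, two_le_fx A B g (hne hv4 0 2 (by decide))
      (q := mk F (tl A⁻¹ x) (hv4.ne_zero 1)) rfl
      (s := mk F (tl A⁻¹ y) (hv4.ne_zero 3)) rfl
      (q' := mk F (tl B x') (hv'.ne_zero 1)) rfl
      (s' := mk F (tl B y') (hv'.ne_zero 3)) rfl (hg 0) (hg 1) (hg 2) (hg 3)⟩

/-- Nested scalar subspaces give many fixed points. -/
theorem exists_many_fx_aux (A B : 𝔾) (μ ν : F) (U W : Submodule F 𝕍)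
    (hUμ : ∀ z ∈ U, tl A z = μ • z) (hWν : ∀ z ∈ W, tl B z = ν • z)
    (k : ℕ) (hk : finrank F U = k + 1) (huw : k + 1 ≤ finrank F W) :
    ∃ g : 𝔾, Fintype.card F ^ finrank F U - 1 ≤ fx (g * A * g⁻¹ * B) * (Fintype.card F - 1) := by
  obtain ⟨bU⟩ : Nonempty (Module.Basis (Fin (k + 1)) F U) := ⟨Module.finBasisOfFinrankEq F U hk⟩
  obtain ⟨bW⟩ : Nonempty (Module.Basis (Fin (finrank F W)) F W) := ⟨Module.finBasis F W⟩
  have hv : LinearIndependent F (U.subtype ∘ bU) :=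
    bU.linearIndependent.map' U.subtype U.ker_subtype
  have hW0 : LinearIndependent F (W.subtype ∘ bW) :=
    bW.linearIndependent.map' W.subtype W.ker_subtype
  have hw : LinearIndependent F ((W.subtype ∘ bW) ∘ Fin.castLE huw) :=
    hW0.comp _ (Fin.castLE_injective _)
  obtain ⟨g, hg⟩ := exists_smul_family hv hw
  refine ⟨g, ?_⟩
  have hgU : ∀ i, tl g (bU i : 𝕍) ∈ W := by
    intro i
    obtain ⟨h, e⟩ := smul_mk_eq g (hv.ne_zero i)
    have h2 := hg i
    rw [e, mk_eq_mk_iff'] at h2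
    obtain ⟨a, ha⟩ := h2
    simp only [Function.comp_apply, Submodule.coe_subtype] at ha
    rw [← ha]
    exact W.smul_mem a (bW _).2
  have hgU' : ∀ z : U, tl g z ∈ W := by
    intro z
    have h1 : (⊤ : Submodule F U) ≤ W.comap ((tl g).comp U.subtype) := by
      rw [← bU.span_eq, Submodule.span_le]
      rintro _ ⟨i, rfl⟩
      exact hgU i
    exact h1 Submodule.mem_top
  rw [fx_mul_card_units]
  have hcard : Nat.card {z : U // z ≠ 0} = Fintype.card F ^ finrank F U - 1 := by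
    classical
    haveI := Fintype.ofFinite U
    rw [Nat.card_eq_fintype_card, Fintype.card_subtype_compl, Fintype.card_subtype_eq,
      ← Nat.card_eq_fintype_card, Module.natCard_eq_pow_finrank (K := F), Nat.card_eq_fintype_card]
  rw [← hcard]
  have key : ∀ z : U, tl (g * A * g⁻¹ * B) (tl g (z : 𝕍)) = (ν * μ) • tl g (z : 𝕍) := by
    intro z
    have e2 : tl g⁻¹ (tl g (z : 𝕍)) = (z : 𝕍) := by
      rw [← tl_mul, inv_mul_cancel]
      simp [tl]
    rw [tl_mul, hWν _ (hgU' z), map_smul, tl_mul, e2, tl_mul, hUμ _ z.2, map_smul, smul_smul]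
  refine Nat.card_le_card_of_injective (fun z : {z : U // z ≠ 0} =>
    (⟨tl g (z.1 : 𝕍), fun e => z.2 (Subtype.ext (tl_injective g (e.trans (map_zero _).symm))),
      ν * μ, key z.1⟩ : {v : 𝕍 // v ≠ 0 ∧ Fixes (tl (g * A * g⁻¹ * B)) v})) ?_
  intro z z' e
  exact Subtype.ext (Subtype.ext (tl_injective g (congrArg Subtype.val e)))

/-- Nested eigenspaces give many fixed points. -/
theorem exists_many_fx (A B : 𝔾) (μ ν : F) (hu : 1 ≤ finrank F (Module.End.eigenspace (tl A) μ))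
    (huw : finrank F (Module.End.eigenspace (tl A) μ) ≤ finrank F (Module.End.eigenspace (tl B) ν)) :
    ∃ g : 𝔾, Fintype.card F ^ finrank F (Module.End.eigenspace (tl A) μ) - 1 ≤
      fx (g * A * g⁻¹ * B) * (Fintype.card F - 1) := by
  obtain ⟨k, hk⟩ := Nat.exists_eq_add_of_le' hu
  exact exists_many_fx_aux A B μ ν _ _ (fun z hz => Module.End.mem_eigenspace_iff.1 hz)
    (fun z hz => Module.End.mem_eigenspace_iff.1 hz) k hk (hk.symm.le.trans huw)

omit [Fintype F] in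
theorem tl_ne_smul (A : 𝔾) (hA : (A : Matrix.ProjectiveSpecialLinearGroup (Fin d) F) ≠ 1) (c : F) :
    tl A ≠ c • LinearMap.id := by
  intro e
  refine hA ?_
  refine FaithfulSMul.eq_of_smul_eq_smul (α := ℙ F 𝕍) fun x => ?_
  rw [Matrix.ProjectiveSpecialLinearGroup.smul_proj_mk, one_smul]
  induction x using Projectivization.ind with
  | _ v hv => exact (fixes_iff A hv).2 ⟨c, by rw [e]; rfl⟩

theorem fx_sub_one_le (hd : 3 ≤ d) (A : 𝔾) (hns : ∀ c : F, tl A ≠ c • LinearMap.id) :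
    (Fintype.card F : ℤ) * ((fx A : ℤ) - 1) ≤ (Nat.card (ℙ F 𝕍) : ℤ) - 1 := by
  set q := Fintype.card F with hq
  have hq2 : 2 ≤ q := Fintype.one_lt_card
  have h1 := card_fixed_le hd A hns
  rw [← fx_mul_card_units, ← hq] at h1
  have hn : Nat.card (ℙ F 𝕍) * (q - 1) = q ^ d - 1 := by
    have := Projectivization.card F 𝕍
    rw [Module.natCard_eq_pow_finrank (K := F) (V := 𝕍), finrank_fintype_fun_eq_card, Fintype.card_fin,
      Nat.card_eq_fintype_card (α := F)] at this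
    exact this.symm
  have hqd : q ^ d = q * q ^ (d - 1) := by rw [← pow_succ']; congr 1; omega
  have hqd1 : 1 ≤ q ^ d := Nat.one_le_pow _ _ (by omega)
  rw [hqd] at hn hqd1
  zify [show 1 ≤ q by omega, hqd1] at h1 hn
  nlinarith

/-- No constant number of fixed points on a product of two classes. -/
theorem false_of_const (hd : 3 ≤ d) (A B : 𝔾) (hA : ∀ c : F, tl A ≠ c • LinearMap.id)
    (hA' : ∀ c : F, tl A⁻¹ ≠ c • LinearMap.id) (hB : ∀ c : F, tl B ≠ c • LinearMap.id)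
    (hB' : ∀ c : F, tl B⁻¹ ≠ c • LinearMap.id) (c : ℕ)
    (hc : ∀ g h : 𝔾, fx (g * A * g⁻¹ * (h * B * h⁻¹)) = c) : False := by
  classical
  haveI : Fintype (ℙ F 𝕍) := Fintype.ofFinite _
  haveI : Fintype 𝔾 := Fintype.ofFinite _
  set q := Fintype.card F with hq
  have hq2 : 2 ≤ q := Fintype.one_lt_card
  have key : ((c : ℤ) - 1) * ((Nat.card (ℙ F 𝕍) : ℤ) - 1) = ((fx A : ℤ) - 1) * ((fx B : ℤ) - 1) := by
    have h2t : IsMultiplyPretransitive 𝔾 (ℙ F 𝕍) 2 := inferInstance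
    haveI : IsPretransitive 𝔾 (ℙ F 𝕍) := MulAction.isPretransitive_of_is_two_pretransitive (h2 := h2t)
    have hfx : ∀ C : 𝔾, fx C = (Finset.univ.filter fun x : ℙ F 𝕍 => C • x = x).card := fun C => by
      rw [fx, Nat.card_eq_fintype_card, Fintype.card_subtype]
    have h := fix_product_identity (G := 𝔾) (X := ℙ F 𝕍)
      (fun x y x' y' hxy hxy' => is_two_pretransitive_iff.1 h2t hxy hxy')
      (by
        have h := Projectivization.card F 𝕍
        have hqd : q ^ 2 ≤ q ^ d := Nat.pow_le_pow_right (by omega) (by omega)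
        rw [Module.natCard_eq_pow_finrank (K := F) (V := 𝕍), finrank_fintype_fun_eq_card, Fintype.card_fin,
          Nat.card_eq_fintype_card (α := F), Nat.card_eq_fintype_card (α := ℙ F 𝕍), ← hq] at h
        by_contra hlt
        have hle : q ^ d - 1 ≤ 1 * (q - 1) := h ▸ Nat.mul_le_mul_right _ (by omega)
        have : q * 2 ≤ q ^ 2 := by rw [pow_two]; exact Nat.mul_le_mul_left q hq2
        omega) (MulAction.toPerm A) (MulAction.toPerm B) c (fun g => by
        rw [← hc g 1, hfx]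
        simp only [one_mul, inv_one, mul_one, mul_smul, MulAction.toPerm_apply])
    rw [Nat.card_eq_fintype_card, hfx, hfx]
    exact h
  have ha := fx_sub_one_le hd A hA
  have hb := fx_sub_one_le hd B hB
  set n := (Nat.card (ℙ F 𝕍) : ℤ) with hn
  have hn1 : (2 : ℤ) ≤ n - 1 := by
    have hcn : Nat.card (ℙ F 𝕍) * (q - 1) = q ^ d - 1 := by
      have := Projectivization.card F 𝕍
      rw [Module.natCard_eq_pow_finrank (K := F) (V := 𝕍), finrank_fintype_fun_eq_card, Fintype.card_fin,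
        Nat.card_eq_fintype_card (α := F)] at this
      exact this.symm
    have h3 : q ^ 3 ≤ q ^ d := Nat.pow_le_pow_right (by omega) hd
    have : 3 ≤ Nat.card (ℙ F 𝕍) := by
      by_contra hlt
      have h4 : q ^ d - 1 ≤ 2 * (q - 1) := hcn ▸ Nat.mul_le_mul_right _ (by omega)
      have h5 : 4 * q ≤ q ^ 3 := by
        rw [pow_succ]; exact Nat.mul_le_mul_right q (Nat.pow_le_pow_left hq2 2)
      omega
    omega
  have hqz : (2 : ℤ) ≤ q := by exact_mod_cast hq2
  -- one fixed point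
  by_cases hfa : fx A = 1
  · obtain ⟨g, hg⟩ := exists_two_le_fx hd A B hA' hB hfa
    have := hc 1 g
    simp only [one_mul, inv_one, mul_one] at this
    rw [this] at hg
    rw [hfa] at key
    push_cast at key
    rcases mul_eq_zero.1 (key.trans (by ring)) with e | e <;> omega
  by_cases hfb : fx B = 1
  · obtain ⟨g, hg⟩ := exists_two_le_fx hd B A hB' hA hfb
    have := hc g 1
    simp only [one_mul, inv_one, mul_one] at this
    rw [show B * (g * A * g⁻¹) = B * (g * A * g⁻¹ * B) * B⁻¹ by group, fx_conj, this] at hg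
    rw [hfb] at key
    push_cast at key
    rcases mul_eq_zero.1 (key.trans (by ring)) with e | e <;> omega
  -- products strictly between `0` and `n - 1` up to sign
  have hsmall : ∀ a b : ℤ, a ≠ 0 → b ≠ 0 → |a| * |b| < n - 1 →
      ((c : ℤ) - 1) * (n - 1) = a * b → False := by
    intro a b ha0 hb0 hlt e
    have h1 : |(c : ℤ) - 1| * (n - 1) = |a| * |b| := by
      rw [← abs_mul, ← e, abs_mul, abs_of_nonneg (show (0:ℤ) ≤ n - 1 by omega)]
    have h2 : 0 < |a| * |b| := mul_pos (abs_pos.2 ha0) (abs_pos.2 hb0)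
    rcases Int.lt_or_le (|(c : ℤ) - 1|) 1 with h3 | h3
    · have : |(c : ℤ) - 1| = 0 := le_antisymm (by omega) (abs_nonneg _)
      rw [this] at h1; omega
    · nlinarith
  by_cases hfa0 : fx A = 0
  · by_cases hfb0 : fx B = 0
    · exact hsmall ((fx A : ℤ) - 1) ((fx B : ℤ) - 1) (by omega) (by omega)
        (by rw [hfa0, hfb0]; norm_num; omega) key
    · refine hsmall ((fx A : ℤ) - 1) ((fx B : ℤ) - 1) (by omega) (by omega) ?_ key
      rw [hfa0, abs_of_nonneg (show (0:ℤ) ≤ (fx B : ℤ) - 1 by omega)]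
      norm_num
      nlinarith
  by_cases hfb0 : fx B = 0
  · refine hsmall ((fx A : ℤ) - 1) ((fx B : ℤ) - 1) (by omega) (by omega) ?_ key
    rw [hfb0, abs_of_nonneg (show (0:ℤ) ≤ (fx A : ℤ) - 1 by omega)]
    norm_num
    nlinarith
  have hA2 : (2 : ℤ) ≤ fx A := by omega
  have hB2 : (2 : ℤ) ≤ fx B := by omega
  have hline : ∀ C : 𝔾, (∀ μ, finrank F (Module.End.eigenspace (tl C) μ) ≤ 1) → (fx C : ℤ) - 1 ≤ q - 2 := by
    intro C hC
    have := fx_le_of_finrank_le C 1 hC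
    rw [pow_one, ← hq] at this
    omega
  obtain ⟨μ, hμ⟩ := Finite.exists_max fun μ : F => finrank F (Module.End.eigenspace (tl A) μ)
  obtain ⟨ν, hν⟩ := Finite.exists_max fun μ : F => finrank F (Module.End.eigenspace (tl B) μ)
  set u := finrank F (Module.End.eigenspace (tl A) μ) with hu
  set w := finrank F (Module.End.eigenspace (tl B) ν) with hw
  rcases Nat.lt_or_ge u 2 with hu2 | hu2
  · refine hsmall ((fx A : ℤ) - 1) ((fx B : ℤ) - 1) (by omega) (by omega) ?_ key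
    have h1 := hline A fun μ' => (hμ μ').trans (by omega)
    rw [abs_of_nonneg (show (0:ℤ) ≤ (fx A : ℤ) - 1 by omega),
      abs_of_nonneg (show (0:ℤ) ≤ (fx B : ℤ) - 1 by omega)]
    nlinarith
  rcases Nat.lt_or_ge w 2 with hw2 | hw2
  · refine hsmall ((fx A : ℤ) - 1) ((fx B : ℤ) - 1) (by omega) (by omega) ?_ key
    have h1 := hline B fun μ' => (hν μ').trans (by omega)
    rw [abs_of_nonneg (show (0:ℤ) ≤ (fx A : ℤ) - 1 by omega),
      abs_of_nonneg (show (0:ℤ) ≤ (fx B : ℤ) - 1 by omega)]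
    nlinarith
  -- nested eigenspaces
  have hend : ∀ (a b u' : ℕ), 2 ≤ u' → (a : ℕ) ≤ q ^ u' - 1 → q ^ u' - 1 ≤ c * (q - 1) → 2 ≤ b →
      ((c : ℤ) - 1) * (n - 1) = ((a : ℤ) - 1) * ((b : ℤ) - 1) →
      (q : ℤ) * ((b : ℤ) - 1) ≤ n - 1 → 2 ≤ a → False := by
    intro a b u' hu' hau hcu hb2 e hbn ha2
    obtain ⟨m, rfl⟩ : ∃ m, u' = m + 2 := ⟨u' - 2, by omega⟩
    have hm : 1 ≤ q ^ (m + 2) := Nat.one_le_pow _ _ (by omega)
    have hm1 : (q : ℤ) ≤ (q : ℤ) ^ (m + 1) := by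
      exact_mod_cast Nat.le_self_pow (Nat.succ_ne_zero m) q
    zify [hm, show 1 ≤ q by omega] at hau hcu
    rw [show (q : ℤ) ^ (m + 2) = q * q ^ (m + 1) by ring] at hau hcu
    have hc1 : (q : ℤ) ^ (m + 1) ≤ (c : ℤ) - 1 := by nlinarith
    have hkey : (q : ℤ) * ((c : ℤ) - 1) ≤ (a : ℤ) - 1 := by
      have : (q : ℤ) * ((c : ℤ) - 1) * (n - 1) ≤ ((a : ℤ) - 1) * (n - 1) := by
        calc (q : ℤ) * ((c : ℤ) - 1) * (n - 1) = ((a : ℤ) - 1) * ((q : ℤ) * ((b : ℤ) - 1)) := by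
              rw [mul_assoc, e]; ring
          _ ≤ _ := mul_le_mul_of_nonneg_left hbn (by
              have : (2 : ℤ) ≤ a := by exact_mod_cast ha2
              omega)
      exact le_of_mul_le_mul_right this (by omega)
    nlinarith
  rcases Nat.le_total u w with hle | hle
  · obtain ⟨g, hg⟩ := exists_many_fx A B μ ν (by omega) hle
    have h1 := hc g 1
    simp only [one_mul, inv_one, mul_one] at h1
    rw [h1, ← hu, ← hq] at hg
    exact hend (fx A) (fx B) u hu2 (fx_le_of_finrank_le A u hμ) hg (by omega) key hb (by omega)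
  · obtain ⟨g, hg⟩ := exists_many_fx B A ν μ (by omega) hle
    have h1 := hc 1 g
    simp only [one_mul, inv_one, mul_one] at h1
    rw [show g * B * g⁻¹ * A = A⁻¹ * (A * (g * B * g⁻¹)) * A⁻¹⁻¹ by group, fx_conj, h1, ← hw, ← hq] at hg
    exact hend (fx B) (fx A) w hw2 (fx_le_of_finrank_le B w hν) hg (by omega)
      (key.trans (mul_comm _ _)) ha (by omega)

/-- The product of two non-trivial classes contains two non-conjugate elements. -/
theorem exists_not_isConj (hd : 3 ≤ d) (a b : Matrix.ProjectiveSpecialLinearGroup (Fin d) F)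
    (ha : a ≠ 1) (hb : b ≠ 1) :
    ∃ g h : Matrix.ProjectiveSpecialLinearGroup (Fin d) F,
      ¬ IsConj (a * b) (g * a * g⁻¹ * (h * b * h⁻¹)) := by
  by_contra! H
  obtain ⟨A, rfl⟩ := QuotientGroup.mk_surjective a
  obtain ⟨B, rfl⟩ := QuotientGroup.mk_surjective b
  have hinv : ∀ C : 𝔾, (C : Matrix.ProjectiveSpecialLinearGroup (Fin d) F) ≠ 1 →
      ((C⁻¹ : 𝔾) : Matrix.ProjectiveSpecialLinearGroup (Fin d) F) ≠ 1 := fun C hC e =>
    hC (by rwa [QuotientGroup.mk_inv, inv_eq_one] at e)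
  refine false_of_const hd A B (tl_ne_smul A ha) (tl_ne_smul _ (hinv A ha)) (tl_ne_smul B hb)
    (tl_ne_smul _ (hinv B hb)) (fx (A * B)) fun g h => ?_
  obtain ⟨k, hk⟩ := isConj_iff.1 (H g h)
  obtain ⟨K, rfl⟩ := QuotientGroup.mk_surjective k
  rw [← fx_conj K (A * B)]
  refine Nat.card_congr (Equiv.subtypeEquivRight fun x => ?_)
  rw [← Matrix.ProjectiveSpecialLinearGroup.smul_proj_mk, ← Matrix.ProjectiveSpecialLinearGroup.smul_proj_mk]
  simp only [QuotientGroup.mk_mul, QuotientGroup.mk_inv, hk]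

end CfsgLib.ClassProduct.LinearFix
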