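import Cfsg.Agent.ClassProduct.Counting

/-! Fixed points of products of two conjugacy classes of `S_n` under `A_n`. -/

set_option autoImplicit false

namespace CfsgLib.ClassProduct

open Finset Equiv Equiv.Perm

variable {n : ℕ}

theorem papply_inv (g : Perm (Fin n)) (x : Fin n) : g (g⁻¹ x) = x := by simp

theorem pinv_apply (g : Perm (Fin n)) (x : Fin n) : g⁻¹ (g x) = x := by simp

/-- Number of fixed points. -/
def fixCount (σ : Perm (Fin n)) : ℕ := #{x : Fin n | σ x = x}

theorem fixCount_eq_natCard (σ : Perm (Fin n)) : Nat.card (Function.fixedPoints ⇑σ) = fixCount σ := by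
  rw [fixCount, ← Fintype.card_subtype, ← Nat.card_eq_fintype_card]
  rfl

theorem fixCount_conj (g σ : Perm (Fin n)) : fixCount (g * σ * g⁻¹) = fixCount σ := by
  unfold fixCount
  refine card_bij' (fun x _ => g⁻¹ x) (fun x _ => g x) ?_ ?_ ?_ ?_
  · intro x hx
    have hx' : (g * σ * g⁻¹) x = x := (mem_filter.1 hx).2
    exact mem_filter.2 ⟨mem_univ _, g.injective (hx'.trans (papply_inv g x).symm)⟩
  · intro x hx
    have hx' : σ x = x := (mem_filter.1 hx).2
    refine mem_filter.2 ⟨mem_univ _, ?_⟩
    simp [hx']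
  · intro x _; simp
  · intro x _; simp

theorem fixCount_mul_comm (a b : Perm (Fin n)) : fixCount (a * b) = fixCount (b * a) := by
  rw [show a * b = a * (b * a) * a⁻¹ by group, fixCount_conj]

theorem fixCount_add_support (σ : Perm (Fin n)) : fixCount σ + σ.support.card = n := by
  have h : ({x : Fin n | σ x = x} : Finset (Fin n)) = σ.supportᶜ := by ext x; simp
  rw [fixCount, h, card_compl, Fintype.card_fin, Nat.sub_add_cancel]
  simpa using card_le_univ σ.support

theorem fixCount_add_two_le {σ : Perm (Fin n)} (h : σ ≠ 1) : fixCount σ + 2 ≤ n := by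
  have hs : 2 ≤ σ.support.card := two_le_card_support_of_ne_one h
  have := fixCount_add_support σ
  omega

/-- A partial bijection leaving two points free extends to an even permutation. -/
theorem exists_even_extend {ι : Type*} [Fintype ι] (s t : ι → Fin n) (hs : Function.Injective s)
    (ht : Function.Injective t) (hn : Fintype.card ι + 2 ≤ n) :
    ∃ σ : Perm (Fin n), Perm.sign σ = 1 ∧ ∀ i, σ (s i) = t i := by
  classical
  obtain ⟨σ, hσ⟩ := Equiv.Perm.exists_extending_pair s t hs ht
  rcases Int.units_eq_one_or (Perm.sign σ) with h | h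
  · exact ⟨σ, h, fun i => congrFun' hσ i⟩
  have h2 : 1 < ((univ : Finset ι).image s)ᶜ.card := by
    rw [card_compl, card_image_of_injective _ hs, card_univ, Fintype.card_fin]; omega
  obtain ⟨p, hp, q, hq, hpq⟩ := one_lt_card.1 h2
  refine ⟨σ * swap p q, by rw [map_mul, h, sign_swap hpq, Int.units_mul_self], fun i => ?_⟩
  simp only [mem_compl, mem_image, mem_univ, true_and, not_exists] at hp hq
  rw [Perm.mul_apply, swap_apply_of_ne_of_ne (hp i) (hq i)]
  exact congrFun' hσ i
where
  congrFun' {α β : Type _} {σ : Perm β} {s t : α → β} (h : ∀ i, σ (s i) = t i) (i : α) : σ (s i) = t i := h i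

/-- Nested fixed-point sets. -/
theorem exists_min_le_fix (a b : Perm (Fin n)) (ha : a ≠ 1) (hab : fixCount a ≤ fixCount b) :
    ∃ h : Perm (Fin n), Perm.sign h = 1 ∧ fixCount a ≤ fixCount (h * a * h⁻¹ * b) := by
  classical
  have hle : Fintype.card {x // a x = x} ≤ Fintype.card {x // b x = x} := by
    rw [Fintype.card_subtype, Fintype.card_subtype]; exact hab
  obtain ⟨e⟩ := Function.Embedding.nonempty_of_card_le hle
  have hcard : Fintype.card {x // a x = x} + 2 ≤ n := by
    rw [Fintype.card_subtype]; exact fixCount_add_two_le ha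
  obtain ⟨h, hh, hmap⟩ := exists_even_extend (fun i : {x // a x = x} => i.1) (fun i => (e i).1)
    Subtype.val_injective (Subtype.val_injective.comp e.injective) hcard
  refine ⟨h, hh, card_le_card_of_injOn h ?_ h.injective.injOn⟩
  intro x hx
  simp only [fixCount, coe_filter, mem_univ, true_and, Set.mem_setOf_eq] at hx ⊢
  have h1 := hmap ⟨x, hx⟩
  have h2 := (e ⟨x, hx⟩).2
  simp only [Perm.mul_apply]
  rw [h1, h2, ← h1, pinv_apply, hx]

theorem two_le_fix_of_two_points {σ : Perm (Fin n)} {x y : Fin n} (hxy : x ≠ y) (hx : σ x = x) (hy : σ y = y) :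
    2 ≤ fixCount σ :=
  one_lt_card.2 ⟨x, by simp [hx], y, by simp [hy], hxy⟩

/-- Four distinct points forming two edges of a permutation moving at least four points. -/
theorem exists_two_edges (σ : Perm (Fin n)) (h : 4 ≤ σ.support.card) :
    ∃ x y, Function.Injective ![x, σ x, y, σ y] := by
  obtain ⟨x, hx⟩ : σ.support.Nonempty := card_pos.1 (by omega)
  have : 0 < (σ.support \ {x, σ x, σ⁻¹ x}).card := by
    have h1 := le_card_sdiff ({x, σ x, σ⁻¹ x} : Finset (Fin n)) σ.support
    have h2 : ({x, σ x, σ⁻¹ x} : Finset (Fin n)).card ≤ 3 := card_le_three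
    omega
  obtain ⟨y, hy⟩ := card_pos.1 this
  simp only [mem_sdiff, mem_support, mem_insert, mem_singleton, not_or, mem_support] at hy hx
  obtain ⟨hym, hy1, hy2, hy3⟩ := hy
  refine ⟨x, y, ?_⟩
  have e1 : x ≠ σ y := fun h => hy3 (by rw [h, pinv_apply])
  have e2 : σ x ≠ σ y := fun h => hy1 (σ.injective h).symm
  intro i j hij
  fin_cases i <;> fin_cases j <;> simp at hij ⊢ <;>
    first
      | exact absurd hij hx.symm | exact absurd hij hx | exact absurd hij hy1 | exact absurd hij.symm hy1
      | exact absurd hij hy2 | exact absurd hij.symm hy2 | exact absurd hij e1 | exact absurd hij.symm e1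
      | exact absurd hij e2 | exact absurd hij.symm e2 | exact absurd hij hym | exact absurd hij.symm hym

theorem exists_odd_centralizing : ∀ a : Perm (Fin 5), fixCount a = 1 →
    ∃ τ : Perm (Fin 5), Perm.sign τ = -1 ∧ τ * a = a * τ := by
  unfold fixCount; decide +kernel

/-- If `a` has exactly one fixed point, some product of conjugates fixes two points. -/
theorem exists_two_le_fix (hn : 5 ≤ n) (a b : Perm (Fin n)) (hb : b ≠ 1) (ha : fixCount a = 1) :
    ∃ h : Perm (Fin n), Perm.sign h = 1 ∧ 2 ≤ fixCount (a * (h * b * h⁻¹)) := by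
  classical
  suffices key : ∃ (h : Perm (Fin n)) (x y : Fin n), (Perm.sign h = 1 ∨ n = 5) ∧ x ≠ y ∧
      (h * b * h⁻¹) x = a⁻¹ x ∧ (h * b * h⁻¹) y = a⁻¹ y by
    obtain ⟨h, x, y, hs, hxy, hx, hy⟩ := key
    have h2 : 2 ≤ fixCount (a * (h * b * h⁻¹)) := two_le_fix_of_two_points hxy
      (by rw [Perm.mul_apply, hx, papply_inv]) (by rw [Perm.mul_apply, hy, papply_inv])
    by_cases h1 : Perm.sign h = 1
    · exact ⟨h, h1, h2⟩
    obtain rfl := hs.resolve_left h1
    obtain ⟨τ, hτ, hτa⟩ := exists_odd_centralizing a ha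
    refine ⟨τ * h, ?_, ?_⟩
    · rw [map_mul, hτ, (Int.units_eq_one_or _).resolve_left h1, Int.units_mul_self]
    · rw [show a * (τ * h * b * (τ * h)⁻¹) = τ * (a * (h * b * h⁻¹)) * τ⁻¹ by
        rw [← mul_assoc τ a, hτa]; group, fixCount_conj]
      exact h2
  have hmove : 4 ≤ (a⁻¹).support.card := by
    rw [support_inv]
    have := fixCount_add_support a
    omega
  by_cases hb0 : fixCount b = 0
  · have hbm : 4 ≤ b.support.card := by
      have := fixCount_add_support b
      omega
    obtain ⟨x, y, hxy⟩ := exists_two_edges a⁻¹ hmove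
    obtain ⟨x', y', hxy'⟩ := exists_two_edges b hbm
    obtain ⟨h, hs, hh⟩ : ∃ h : Perm (Fin n), (Perm.sign h = 1 ∨ n = 5) ∧
        ∀ i, h (![x', b x', y', b y'] i) = ![x, a⁻¹ x, y, a⁻¹ y] i := by
      by_cases h5 : n = 5
      · obtain ⟨h, hh⟩ := Equiv.Perm.exists_extending_pair _ _ hxy' hxy
        exact ⟨h, Or.inr h5, hh⟩
      · obtain ⟨h, h1, hh⟩ := exists_even_extend _ _ hxy' hxy (by simp; omega)
        exact ⟨h, Or.inl h1, hh⟩
    have h0 : h x' = x := hh 0
    have h1 : h (b x') = a⁻¹ x := hh 1
    have h2 : h y' = y := hh 2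
    have h3 : h (b y') = a⁻¹ y := hh 3
    refine ⟨h, x, y, hs, fun he => absurd (hxy (a₁ := 0) (a₂ := 2) he) (by decide), ?_, ?_⟩
    · rw [← h0, Perm.mul_apply, Perm.mul_apply, pinv_apply, h1, h0]
    · rw [← h2, Perm.mul_apply, Perm.mul_apply, pinv_apply, h3, h2]
  · obtain ⟨x, hx⟩ : ∃ x, a⁻¹ x = x := by
      obtain ⟨x, hx⟩ := card_pos.1 (show 0 < fixCount a by omega)
      simp only [mem_filter, mem_univ, true_and] at hx
      exact ⟨x, inv_eq_iff_eq.2 hx.symm⟩
    obtain ⟨y, hy⟩ : ∃ y, a⁻¹ y ≠ y := by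
      obtain ⟨y, hy⟩ := card_pos.1 (show 0 < (a⁻¹).support.card by omega)
      exact ⟨y, mem_support.1 hy⟩
    obtain ⟨x', hx'⟩ : ∃ x, b x = x := by
      obtain ⟨x, hx⟩ := card_pos.1 (Nat.pos_of_ne_zero hb0)
      exact ⟨x, (mem_filter.1 hx).2⟩
    obtain ⟨y', hy'⟩ : ∃ y, b y ≠ y := by
      by_contra h
      exact hb (Equiv.ext (by simpa using h))
    have hinj : ∀ (σ : Perm (Fin n)) (u v : Fin n), σ u = u → σ v ≠ v → Function.Injective ![u, v, σ v] := by
      intro σ u v hu hv
      have e1 : u ≠ v := fun h => hv (h ▸ hu)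
      have e2 : u ≠ σ v := fun h => e1 (σ.injective (hu.trans h))
      intro i j hij
      fin_cases i <;> fin_cases j <;> simp at hij ⊢ <;>
        first
          | exact absurd hij e1 | exact absurd hij.symm e1 | exact absurd hij e2 | exact absurd hij.symm e2
          | exact absurd hij hv | exact absurd hij.symm hv
    obtain ⟨h, hs, hh⟩ := exists_even_extend _ _ (hinj b x' y' hx' hy') (hinj a⁻¹ x y hx hy) (by simp; omega)
    have h0 : h x' = x := hh 0
    have h1 : h y' = y := hh 1
    have h2 : h (b y') = a⁻¹ y := hh 2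
    refine ⟨h, x, y, Or.inl hs, fun he => hy (he ▸ hx), ?_, ?_⟩
    · rw [← h0, Perm.mul_apply, Perm.mul_apply, pinv_apply, hx', h0, hx]
    · rw [← h1, Perm.mul_apply, Perm.mul_apply, pinv_apply, h2, h1]

/-- The fixed-point count is not constant on a product of two non-trivial `A_n`-classes. -/
theorem fix_not_constant (hn : 5 ≤ n) (a b : Perm (Fin n)) (ha : a ≠ 1) (hb : b ≠ 1) (c : ℕ) :
    ¬ ∀ g h : Perm (Fin n), Perm.sign g = 1 → Perm.sign h = 1 → fixCount (g * a * g⁻¹ * (h * b * h⁻¹)) = c := by
  intro H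
  have h2n := Fintype.card_fin n
  have : MulAction.IsPretransitive (alternatingGroup (Fin n)) (Fin n) := by
    apply alternatingGroup.isPretransitive_of_three_le_card; simp; omega
  have key : ((c : ℤ) - 1) * ((n : ℤ) - 1) = ((fixCount a : ℤ) - 1) * ((fixCount b : ℤ) - 1) := by
    have h2 : ∀ x y x' y' : Fin n, x ≠ y → x' ≠ y' → ∃ g : alternatingGroup (Fin n), g • x = x' ∧ g • y = y' := by
      intro x y x' y' h1 h1'
      obtain ⟨g, hg, hgi⟩ := exists_even_extend ![x, y] ![x', y']
        (by intro i j; fin_cases i <;> fin_cases j <;> simp [h1, h1.symm])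
        (by intro i j; fin_cases i <;> fin_cases j <;> simp [h1', h1'.symm]) (by simp; omega)
      exact ⟨⟨g, mem_alternatingGroup.2 hg⟩, hgi 0, hgi 1⟩
    -- apply the identity in `S_n`-coordinates
    exact fix_identity_aux hn a b c h2 (fun g => H g.1 1 (mem_alternatingGroup.1 g.2) (map_one _) |> fun h => by simpa using h)
  have hfa := fixCount_add_two_le ha
  have hfb := fixCount_add_two_le hb
  rcases Nat.lt_trichotomy (fixCount a) 1 with h | h | h <;>
    rcases Nat.lt_trichotomy (fixCount b) 1 with h' | h' | h'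
  · -- both zero
    have e1 : fixCount a = 0 := by omega
    have e2 : fixCount b = 0 := by omega
    rw [e1, e2] at key
    push_cast at key
    rcases le_or_gt (c : ℤ) 1 with hc | hc <;> nlinarith
  · obtain ⟨g, hg, h2⟩ := exists_two_le_fix hn b a ha h'
    rw [fixCount_mul_comm] at h2
    have := H g 1 hg (map_one _)
    simp only [one_mul, inv_one, mul_one] at this
    rw [this] at h2
    rw [h'] at key
    push_cast at key
    nlinarith
  · have e1 : fixCount a = 0 := by omega
    rw [e1] at key
    have hlo : (2 : ℤ) ≤ fixCount b := by exact_mod_cast h'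
    have hhi : (fixCount b : ℤ) + 2 ≤ n := by exact_mod_cast hfb
    rcases le_or_gt (1 : ℤ) c with hc | hc
    · push_cast at key; nlinarith
    · have : (c : ℤ) = 0 := by omega
      rw [this] at key; push_cast at key; omega
  · obtain ⟨g, hg, h2⟩ := exists_two_le_fix hn a b hb h
    have := H 1 g (map_one _) hg
    simp only [one_mul, inv_one, mul_one] at this
    rw [this] at h2
    rw [h] at key
    push_cast at key
    nlinarith
  · obtain ⟨g, hg, h2⟩ := exists_two_le_fix hn a b hb h
    have := H 1 g (map_one _) hg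
    simp only [one_mul, inv_one, mul_one] at this
    rw [this] at h2
    rw [h] at key
    push_cast at key
    nlinarith
  · obtain ⟨g, hg, h2⟩ := exists_two_le_fix hn a b hb h
    have := H 1 g (map_one _) hg
    simp only [one_mul, inv_one, mul_one] at this
    rw [this] at h2
    rw [h] at key
    push_cast at key
    nlinarith
  · have e1 : fixCount b = 0 := by omega
    rw [e1] at key
    have hlo : (2 : ℤ) ≤ fixCount a := by exact_mod_cast h
    have hhi : (fixCount a : ℤ) + 2 ≤ n := by exact_mod_cast hfa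
    rcases le_or_gt (1 : ℤ) c with hc | hc
    · push_cast at key; nlinarith
    · have : (c : ℤ) = 0 := by omega
      rw [this] at key; push_cast at key; omega
  · obtain ⟨g, hg, h2⟩ := exists_two_le_fix hn b a ha h'
    rw [fixCount_mul_comm] at h2
    have := H g 1 hg (map_one _)
    simp only [one_mul, inv_one, mul_one] at this
    rw [this] at h2
    rw [h'] at key
    push_cast at key
    nlinarith
  · -- both at least two
    rcases le_total (fixCount a) (fixCount b) with hab | hab
    · obtain ⟨g, hg, h2⟩ := exists_min_le_fix a b ha hab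
      have := H g 1 hg (map_one _)
      simp only [one_mul, inv_one, mul_one] at this
      rw [this] at h2
      have : (1 : ℤ) ≤ (fixCount a : ℤ) - 1 := by omega
      nlinarith
    · obtain ⟨g, hg, h2⟩ := exists_min_le_fix b a hb hab
      rw [fixCount_mul_comm] at h2
      have := H 1 g (map_one _) hg
      simp only [one_mul, inv_one, mul_one] at this
      rw [this] at h2
      have : (1 : ℤ) ≤ (fixCount b : ℤ) - 1 := by omega
      nlinarith
where
  fix_identity_aux (hn : 5 ≤ n) (a b : Perm (Fin n)) (c : ℕ)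
      (h2 : ∀ x y x' y' : Fin n, x ≠ y → x' ≠ y' → ∃ g : alternatingGroup (Fin n), g • x = x' ∧ g • y = y')
      (H : ∀ g : alternatingGroup (Fin n), fixCount ((g : Perm (Fin n)) * a * (g : Perm (Fin n))⁻¹ * b) = c) :
      ((c : ℤ) - 1) * ((n : ℤ) - 1) = ((fixCount a : ℤ) - 1) * ((fixCount b : ℤ) - 1) := by
    have : MulAction.IsPretransitive (alternatingGroup (Fin n)) (Fin n) := by
      apply alternatingGroup.isPretransitive_of_three_le_card; simp; omega
    have := fix_product_identity (G := alternatingGroup (Fin n)) (X := Fin n) h2 (by simp; omega) a b c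
      (fun g => by rw [← H g]; rfl)
    rwa [Fintype.card_fin] at this

end CfsgLib.ClassProduct
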